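import Cfsg.Agent.H85.RGT.Frm
import Cfsg.Agent.H522.FldSixLib

/-!
# S3509, `E₆`: combinatorics of the graph automorphism (helper85)

Indices of the roots of `chevE6`: `36 ≤ r` positive, `71 - r` negative, `71` highest root, `rh` the graph automorphism.
-/

set_option autoImplicit false
set_option linter.unusedSectionVars false

namespace Cfsg.Agent.H85.RGT.Six

open CoxeterSystem Cfsg Cfsg.Lie Cfsg.Lie.ChevalleyDatum
open Cfsg.Agent.ChevalleyStructure.CoxeterGeom Cfsg.Agent.Tits.Roots Cfsg.Agent.Nodes.RGDChev Cfsg.Agent.Nodes.BNOf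
open Cfsg.Agent.ChevalleyStructure.GraphSymm (symmE6)
open Cfsg.Agent.BpExc.RowsUntw (e6T)

/-- the roots as vectors -/
abbrev vc (r : ℕ) : Fin 6 → ℤ := vec chevE6 6 r

/-- the graph automorphism -/
def rh (r : Fin 72) : Fin 72 := symmE6.σ r

/-- its signs -/
def se (r : Fin 72) : ℤ := symmE6.ε r

/-- words of reflections -/
def rf (ω : List (Fin 6)) (r : ℕ) : ℕ := ω.foldr (fun i s => chevE6.reflectRoot i s) r

theorem rf_cons (i : Fin 6) (ω : List (Fin 6)) (r : ℕ) : rf (i :: ω) r = chevE6.reflectRoot i (rf ω r) := rfl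

theorem rf_lt (ω : List (Fin 6)) {r : ℕ} (hr : r < 72) : rf ω r < 72 := by
  induction ω with
  | nil => exact hr
  | cons i ω ih =>
    rw [rf_cons]
    exact Cfsg.Agent.ChevalleyStructure.NPerm.reflectRoot_lt e6T.inList (lt_rank e6T i) ih

theorem neg_idx : ∀ r : Fin 72, chevE6.neg r.val = 71 - r.val := by decide +kernel

theorem vc_pos : ∀ r : Fin 72, 36 ≤ r.val → ∀ i, 0 ≤ vc r.val i := by decide +kernel

theorem vc_neg : ∀ r : Fin 72, r.val < 36 → ∀ i, vc r.val i ≤ 0 := by decide +kernel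

theorem se_sq : ∀ r : Fin 72, se r = 1 ∨ se r = -1 := by decide +kernel

/-- the fixed roots have sign `1` -/
theorem se_fix : ∀ r : Fin 72, rh r = r → se r = 1 := by decide +kernel

theorem rh_pos : ∀ r : Fin 72, 36 ≤ r.val → 36 ≤ (rh r).val := by decide +kernel

theorem rh_negative : ∀ r : Fin 72, r.val < 36 → (rh r).val < 36 := by decide +kernel

theorem rh_rh : ∀ r : Fin 72, rh (rh r) = r := by decide +kernel

theorem rh_neg : ∀ s : Fin 72, rh s = s → rh ⟨71 - s.val, by omega⟩ = ⟨71 - s.val, by omega⟩ := by decide +kernel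

/-- a root and its image commute -/
theorem comm_rh : ∀ r : Fin 72, rh r ≠ r → chevE6.commTerms r.val (rh r).val = [] ∧ (rh r).val ≠ chevE6.neg r.val := by
  decide +kernel

/-- the positive fixed roots with even coefficient -/
theorem even_fix : ∀ r : Fin 72, 36 ≤ r.val → rh r = r → Even (vc r.val 1) → r.val ∈ [39, 44, 60, 71] := by
  decide +kernel

theorem simple_six : ∀ i : Fin 6, chevE6.simple i.val ∈ [56, 46, 42, 39, 37, 36] := by decide +kernel

theorem simple_rh : ∀ i : Fin 6, i ≠ 1 → i ≠ 3 → ∀ r : Fin 72, r.val = chevE6.simple i.val → rh r ≠ r := by decide +kernel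

theorem comm_top : ∀ r : Fin 72, 36 ≤ r.val → chevE6.commTerms r.val 71 = [] := by decide +kernel

theorem comm_bot : ∀ r : Fin 72, r.val < 36 → chevE6.commTerms r.val 0 = [] := by decide +kernel

theorem comm_48_66 : chevE6.commTerms 48 66 = [] ∧ chevE6.commTerms 50 68 = [] := by decide +kernel

theorem comm_48_68 : ∃ c : ℤ, (c = 1 ∨ c = -1) ∧ chevE6.commTerms 48 68 = [(71, c, 1, 1)] := by
  refine ⟨(chevE6.commTerms 48 68).head!.2.1, ?_, ?_⟩
  · decide +kernel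
  · decide +kernel

theorem rh_vals : rh 48 = 50 ∧ rh 68 = 66 ∧ rh 71 = 71 ∧ rh 0 = 0 ∧ rh 39 = 39 := by decide +kernel

/-- words moving the highest root and another root to positive roots -/
def pw : List (List (Fin 6)) := [[], [5, 4, 3, 2, 1, 3, 4, 0, 2, 3], [5, 4, 3, 2, 1, 3, 4, 0, 2], [5, 4, 3, 2, 1,
  3, 0, 2], [4, 3, 2, 1, 3, 0, 2], [5, 4, 3, 2, 1, 3, 4, 0], [5, 4, 3, 2, 1, 3, 0], [4, 3, 2, 1, 3, 0], [5, 4, 3,
  2, 1, 0], [4, 3, 2, 1, 0], [3, 2, 1, 0], [5, 4, 3, 2, 0], [4, 3, 2, 0], [3, 2, 0], [2, 0], [0], [5, 4, 3, 2, 1,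
  3, 4], [5, 4, 3, 2, 1, 3], [4, 3, 2, 1, 3], [5, 4, 3, 2, 1], [4, 3, 2, 1], [3, 2, 1], [5, 4, 3, 1], [4, 3, 1],
  [3, 1], [1], [5, 4, 3, 2], [4, 3, 2], [3, 2], [2], [5, 4, 3], [4, 3], [3], [5, 4], [4], [5]]

theorem pw_check : ∀ s : Fin 36, 0 < s.val → 36 ≤ rf (pw.getD s.val []) 71 ∧ 36 ≤ rf (pw.getD s.val []) s.val := by
  decide +kernel

/-- the words of the four long roots -/
def bw : List (List (Fin 6) × Fin 6 × ℕ) :=
  [([], 3, 39), ([4, 3], 2, 44), ([5, 4, 3, 2], 0, 60), ([1, 3, 4, 5, 2, 3, 4, 1, 3, 2], 0, 71)]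

theorem bw_check : ∀ x ∈ bw, rf x.1 (chevE6.simple x.2.1.val) = x.2.2 := by decide +kernel

theorem bw_fix : ∀ x ∈ bw, ∃ h : x.2.2 < 72, 36 ≤ x.2.2 ∧ rh ⟨x.2.2, h⟩ = ⟨x.2.2, h⟩ ∧ Even (vc x.2.2 1) := by
  intro x hx
  simp only [bw, List.mem_cons, List.not_mem_nil, or_false] at hx
  rcases hx with rfl | rfl | rfl | rfl
  · exact ⟨by decide, by decide, by decide +kernel, by decide +kernel⟩
  · exact ⟨by decide, by decide, by decide +kernel, by decide +kernel⟩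
  · exact ⟨by decide, by decide, by decide +kernel, by decide +kernel⟩
  · exact ⟨by decide, by decide, by decide +kernel, by decide +kernel⟩

/-- the word of the longest element -/
def w0w : List (Fin 6) := (bw.map fun x => x.1 ++ [x.2.1] ++ x.1.reverse).flatten

theorem w0_check : ∀ r : Fin 72, 36 ≤ r.val → rf w0w r.val < 36 := by decide +kernel

/-- the parity of the coroot of the highest root -/
theorem par_top : ∀ r : Fin 72, (Even (chevE6.cartan 0 (rf [1, 3, 4, 5, 2, 3, 4, 1, 3, 2].reverse r.val)) ↔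
    Even (vc r.val 1)) := by decide +kernel

theorem vc_rel : vc 44 = vc 39 + vc 42 + vc 37 ∧ vc 60 = vc 44 + vc 56 + vc 36 ∧ vc 71 = vc 60 + vc 50 + vc 48 ∧
    vc 71 = vc 60 + vc 44 + vc 39 + vc 46 + vc 46 := by decide +kernel

theorem mov_vals : rh 42 ≠ 42 ∧ rh 37 ≠ 37 ∧ rh 56 ≠ 56 ∧ rh 36 ≠ 36 ∧ rh 50 ≠ 50 ∧ rh 48 ≠ 48 ∧ rh 68 ≠ 68 := by
  decide +kernel

theorem ht_vals : (∑ i, vc 39 i) = 1 ∧ (∑ i, vc 44 i) = 3 ∧ (∑ i, vc 60 i) = 5 ∧ (∑ i, vc 71 i) = 11 := by decide +kernel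

theorem ht_pos : ∀ r : Fin 72, 36 ≤ r.val → 0 < ∑ i, vc r.val i := by decide +kernel

end Cfsg.Agent.H85.RGT.Six
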