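import Cfsg.Agent.H85.RGT.Frm

/-!
# S3509, exceptional groups: the base pair for common fixed points, hypotheses on `L` only (helper85)

* `core'` : `O_p(K) = 1`, if an element of `K` conjugates `U ∩ L` into `U⁻`;
* `base'` : the base pair `H398.RG.Base`.
-/

set_option autoImplicit false
set_option linter.unusedSectionVars false

namespace Cfsg.Agent.H85.RGT

open CoxeterSystem Cfsg.Agent.ChevalleyStructure.CoxeterGeom Cfsg.Agent.Tits.Roots Cfsg.Agent.Tits.Core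
  Cfsg.Agent.Tits.RootComb Cfsg.Agent.Tits.Exchange Cfsg.Agent.Nodes.Reps Cfsg.Agent.Nodes.BNOf
  Cfsg.Agent.Nodes.StabComb Cfsg.Agent.Nodes.Bruhat Cfsg.Agent.Nodes.OppDec Cfsg.Agent.Nodes.LeviDec
  Cfsg.Agent.Nodes.NormalForm Cfsg.Agent.Nodes.SubComb Cfsg.Agent.KFacts.RgdField
  Cfsg.Agent.BpExc.TorCent Cfsg.Agent.BpExc.Tow Cfsg.Agent.BpExc.Fr Cfsg.Agent.H28.RG Cfsg.Agent.H441.RG

variable {I W Y : Type*} [Fintype I] [DecidableEq I] [Group W] [Finite W] [Group Y] {M : CoxeterMatrix I}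
  {cs : CoxeterSystem M W} {A : I → I → ℤ} {h : IsCartan M A} {p : ℕ}
  {J : Type*} [Preorder J] {T : J → Subgroup Y} {n : I → Y} {X : J → (I → ℤ) → Subgroup Y}

variable (H : Tow cs h p T n X) {S : Set (MulAut Y)}

/-- **`O_p(K) = 1`.** -/
theorem core' [Fact p.Prime] [Finite ↥(Fx S)] (hS : ∀ α ∈ S, PFr H α) (hG : GG cs h (TL T) (XL X) = ⊤)
    (hmv : Move H S) {K : Subgroup Y} (hK : K ≤ Fx S) (hU : UU cs h X ⊓ Fx S ≤ K) {k₀ : Y} (hkK : k₀ ∈ K)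
    (hk₀ : ∀ u ∈ UU cs h X ⊓ Fx S, k₀ * u * k₀⁻¹ ∈ VV cs h X) : Cfsg.pCore p ↥K = ⊥ := by
  obtain ⟨P, hP⟩ := exists_sylow H hS hG hmv
  set O := Cfsg.pCore p ↥K with hO
  have hOn : O.Normal := Cfsg.Agent.Lib.Cores.pCore_normal p
  have hOp : IsPGroup p O := Cfsg.Agent.Lib.Cores.pCore_isPGroup p
  set U := (UU cs h X).subgroupOf K with hUdef
  have hUp : IsPGroup p U := (isPGroup_UU H).comap_subtype
  have h1 : IsPGroup p (O ⊔ U : Subgroup ↥K) := hOp.to_sup_of_normal_left hUp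
  have h2 : IsPGroup p ((O ⊔ U : Subgroup ↥K).map (Subgroup.inclusion hK)) := h1.map _
  have h3 : (P : Subgroup ↥(Fx S)) ≤ (O ⊔ U : Subgroup ↥K).map (Subgroup.inclusion hK) := by
    rw [hP]
    intro x hx
    rw [Subgroup.mem_subgroupOf] at hx
    refine ⟨⟨x, hU ⟨hx, x.2⟩⟩, Subgroup.mem_sup_right ?_, rfl⟩
    exact Subgroup.mem_subgroupOf.2 hx
  have h4 : (O ⊔ U : Subgroup ↥K).map (Subgroup.inclusion hK) = P := P.is_maximal' h2 h3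
  have h5 : ∀ x ∈ O, (x : Y) ∈ UU cs h X := by
    intro x hx
    have h6 : Subgroup.inclusion hK x ∈ (O ⊔ U : Subgroup ↥K).map (Subgroup.inclusion hK) :=
      ⟨x, Subgroup.mem_sup_left hx, rfl⟩
    rw [h4, hP] at h6
    exact h6
  rw [eq_bot_iff]
  intro x hx
  have h6 : (⟨k₀, hkK⟩ : ↥K) * x * (⟨k₀, hkK⟩ : ↥K)⁻¹ ∈ O := hOn.conj_mem x hx _
  have h7 : k₀ * (x : Y) * k₀⁻¹ ∈ UU cs h X := h5 _ h6
  have h8 : k₀ * (x : Y) * k₀⁻¹ ∈ VV cs h X := hk₀ x ⟨h5 x hx, hK x.2⟩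
  have h9 := eq_one_of_pos_neg H h7 h8
  rw [conj_eq_one_iff] at h9
  rw [Subgroup.mem_bot]
  exact Subtype.ext h9

/-- `X_a ⊔ X_{-a}` is not a `p`-group, `p` odd -/
theorem not_pgroup [Fact p.Prime] (hp2 : p ≠ 2) {a₀ : I → ℤ} (ha₀ : IsRoot cs h a₀) {Z : Subgroup Y}
    {w₁ : W} {n₁ : Y} (hn₁ : Rp cs H.nsys w₁ n₁) (hn₁m : n₁ ∈ Z) (hw₁ : rep cs h w₁ a₀ = -a₀) : ¬ IsPGroup p ↥Z := by
  intro hpg
  obtain ⟨m, hm⟩ := hpg ⟨n₁, hn₁m⟩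
  have hm' : n₁ ^ p ^ m = 1 := congrArg (fun z : ↥Z => (z : Y)) hm
  have h2 : ∀ j : ℕ, Rp cs H.nsys (w₁ ^ j) (n₁ ^ j) := by
    intro j
    induction j with
    | zero => rw [pow_zero, pow_zero]; exact rp_one
    | succ j ih => rw [pow_succ, pow_succ]; exact ih.mul hn₁
  have h3 := h2 (p ^ m)
  rw [hm'] at h3
  have h4 : w₁ ^ p ^ m = 1 := rpL_unique H h3 rp_one
  have hodd : Odd (p ^ m) := ((Fact.out : p.Prime).odd_of_ne_two hp2).pow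
  have h5 : ∀ j : ℕ, rep cs h (w₁ ^ (2 * j + 1)) a₀ = -a₀ := by
    intro j
    induction j with
    | zero => simpa using hw₁
    | succ j ih =>
      have e : w₁ ^ (2 * (j + 1) + 1) = w₁ * (w₁ * w₁ ^ (2 * j + 1)) := by
        rw [show 2 * (j + 1) + 1 = (2 * j + 1) + 1 + 1 by ring, pow_succ', pow_succ']
      rw [e, rep_mul_apply, rep_mul_apply, ih, map_neg, hw₁, neg_neg, hw₁]
  obtain ⟨j, hj⟩ := hodd
  have h6 := h5 j
  rw [← hj, h4, map_one, Module.End.one_apply] at h6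
  have h7 : a₀ = 0 := by
    funext i
    have := congrFun h6 i
    simp only [Pi.neg_apply] at this
    simp only [Pi.zero_apply]
    omega
  exact ha₀.ne_zero h7

include H in
omit [Finite W] in
/-- a subgroup with a nontrivial torus element is not a `p`-group -/
theorem not_pgroup_tor [Fact p.Prime] {Z : Subgroup Y} {t : Y} (ht : t ∈ TL T) (htZ : t ∈ Z) (ht1 : t ≠ 1) :
    ¬ IsPGroup p ↥Z := by
  intro hpg
  obtain ⟨m, hm⟩ := hpg ⟨t, htZ⟩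
  have hm' : t ^ p ^ m = 1 := congrArg (fun z : ↥Z => (z : Y)) hm
  exact ht1 (tor_eq_one H ht hm')

open Cfsg.Agent.H398.RG (Base) in
/-- **The base pair.** All hypotheses are on the elements of `L = Fx S`. -/
theorem base' [Fact p.Prime] [Finite ↥(Fx S)] (hS : ∀ α ∈ S, PFr H α)
    (hG : GG cs h (TL T) (XL X) = ⊤) (hmv : Move H S) {a₀ : I → ℤ} (ha₀ : IsRoot cs h a₀) (hpos : 0 ≤ a₀)
    (hcU : ∀ u ∈ UU cs h X ⊓ Fx S, ∀ x ∈ XL X a₀ ⊓ Fx S, u * x = x * u)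
    (hcV : ∀ u ∈ VV cs h X ⊓ Fx S, ∀ x ∈ XL X (-a₀) ⊓ Fx S, u * x = x * u)
    (hne : XL X a₀ ⊓ Fx S ≠ ⊥) (hnp : ¬ IsPGroup p ↥((XL X a₀ ⊓ Fx S) ⊔ (XL X (-a₀) ⊓ Fx S) : Subgroup Y))
    (hpair : ∀ (w : W) (k : Y), Rp cs H.nsys w k → k ∈ Fx S → rep cs h w a₀ ≠ -a₀ →
      IsPGroup p ↥((XL X a₀ ⊓ Fx S) ⊔ (XL X (rep cs h w a₀) ⊓ Fx S) : Subgroup Y))
    {w₁ : W} {n₁ : Y} (hn₁ : Rp cs H.nsys w₁ n₁) (hn₁m : n₁ ∈ (XL X a₀ ⊓ Fx S) ⊔ (XL X (-a₀) ⊓ Fx S))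
    (hw₁ : rep cs h w₁ a₀ = -a₀)
    {k₀ : Y} (hkK : k₀ ∈ (UU cs h X ⊓ Fx S) ⊔ (VV cs h X ⊓ Fx S) ⊔ (TL T ⊓ Fx S))
    (hk₀ : ∀ u ∈ UU cs h X ⊓ Fx S, k₀ * u * k₀⁻¹ ∈ VV cs h X) :
    Base p ((UU cs h X ⊓ Fx S) ⊔ (VV cs h X ⊓ Fx S) ⊔ (TL T ⊓ Fx S)) (XL X a₀ ⊓ Fx S) (XL X (-a₀) ⊓ Fx S)
      (UU cs h X ⊓ Fx S) (VV cs h X ⊓ Fx S) (TL T ⊓ Fx S) := by
  set L := Fx S with hL
  set K := (UU cs h X ⊓ L) ⊔ (VV cs h X ⊓ L) ⊔ (TL T ⊓ L) with hK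
  have hXU : XL X a₀ ≤ UU cs h X := RGD.le_Sup (S := RGD.Pos cs h) ⟨ha₀, hpos⟩
  have hXV : XL X (-a₀) ≤ VV cs h X := RGD.le_Sup (S := Neg cs h) ⟨ha₀.neg, neg_nonpos.2 hpos⟩
  have hPK : UU cs h X ⊓ L ≤ K := le_sup_left.trans le_sup_left
  have hQK : VV cs h X ⊓ L ≤ K := le_sup_right.trans le_sup_left
  have hTK : TL T ⊓ L ≤ K := le_sup_right
  have hKL : K ≤ L := sup_le (sup_le inf_le_right inf_le_right) inf_le_right
  have hXK : XL X a₀ ⊓ L ≤ K := (inf_le_inf_right _ hXU).trans hPK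
  have hYK : XL X (-a₀) ⊓ L ≤ K := (inf_le_inf_right _ hXV).trans hQK
  have hn₁K : n₁ ∈ K := (sup_le hXK hYK) hn₁m
  -- conjugates of `X`
  have hcj : ∀ (w : W) (k : Y), Rp cs H.nsys w k → k ∈ L →
      Cfsg.Agent.H398.RG.cj k (XL X a₀ ⊓ L) = XL X (rep cs h w a₀) ⊓ L := by
    intro w k hk hkL
    ext y
    rw [Cfsg.Agent.H398.RG.mem_cj, Subgroup.mem_inf, Subgroup.mem_inf, ← H.conj_rp hk ha₀]
    constructor
    · rintro ⟨h1, h2⟩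
      refine ⟨mem_cj.2 h1, ?_⟩
      have e : y = k * (k⁻¹ * y * k) * k⁻¹ := by group
      rw [e]
      exact mul_mem (mul_mem hkL h2) (inv_mem hkL)
    · rintro ⟨h1, h2⟩
      exact ⟨mem_cj.1 h1, mul_mem (mul_mem (inv_mem hkL) h2) hkL⟩
  have hcjU : ∀ u ∈ UU cs h X ⊓ L, Cfsg.Agent.H398.RG.cj u (XL X a₀ ⊓ L) = XL X a₀ ⊓ L := by
    intro u hu
    ext y
    rw [Cfsg.Agent.H398.RG.mem_cj]
    constructor
    · intro h1
      have h2 := hcU u hu _ h1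
      have e : y = u⁻¹ * y * u := by
        have e1 : u * (u⁻¹ * y * u) * u⁻¹ = u⁻¹ * y * u := by rw [h2]; group
        have e2 : u * (u⁻¹ * y * u) * u⁻¹ = y := by group
        rw [← e1, e2]
      rw [e]
      exact h1
    · intro h1
      have h2 := hcU u hu _ h1
      have e : u⁻¹ * y * u = y := by rw [mul_assoc, ← h2]; group
      rw [e]
      exact h1
  refine ⟨hXK, hPK, hQK, hTK, le_rfl, ?_, ?_, ?_, ?_, hne, ?_, ?_, ?_, ?_⟩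
  · intro g hg x hx
    have e : g * x * g⁻¹ = x := by rw [hcU g hg x hx]; group
    rw [e]
    exact hx
  · intro g hg x hx
    have e : g * x * g⁻¹ = x := by rw [hcV g hg x hx]; group
    rw [e]
    exact hx
  · intro g hg x hx
    have h1 := hcj 1 g (rp_of_mem hg.1) hg.2
    rw [map_one, Module.End.one_apply] at h1
    rw [← h1]
    exact Cfsg.Agent.H398.RG.conj_mem_cj' hx
  · exact (isPGroup_UU H).to_le (inf_le_left.trans hXU)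
  · exact hnp
  · exact ⟨n₁, hn₁K, by rw [hcj w₁ n₁ hn₁ (hKL hn₁K), hw₁]⟩
  · intro g hg
    obtain ⟨w, u, hu, k, hk, hkF, v, hv, -, e⟩ := form H hS hG (hKL hg)
    have h1 : Cfsg.Agent.H398.RG.cj g (XL X a₀ ⊓ L) =
        Cfsg.Agent.H398.RG.cj u (XL X (rep cs h w a₀) ⊓ L) := by
      rw [e, mul_assoc, Cfsg.Agent.H398.RG.cj_mul, Cfsg.Agent.H398.RG.cj_mul, hcjU v hv, hcj w k hk hkF]
    by_cases hw : rep cs h w a₀ = -a₀
    · right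
      refine ⟨u⁻¹, inv_mem (hPK hu), hcjU _ (inv_mem hu), ?_⟩
      rw [h1, hw, ← Cfsg.Agent.H398.RG.cj_mul, inv_mul_cancel, Cfsg.Agent.H398.RG.cj_one]
    · left
      have h2 := hpair w k hk hkF hw
      have h3 : IsPGroup p ↥(Cfsg.Agent.H398.RG.cj u ((XL X a₀ ⊓ L) ⊔ (XL X (rep cs h w a₀) ⊓ L))) :=
        Cfsg.Agent.H398.RG.isPGroup_cj h2
      rw [Cfsg.Agent.H398.RG.cj_sup, hcjU u hu] at h3
      rw [h1]
      exact h3
  · exact core' H hS hG hmv hKL hPK hkK hk₀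

end Cfsg.Agent.H85.RGT
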