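import Cfsg.Agent.H85.RGT.Comb

/-!
# S3509, `E₆(k)`: the fixed points of the Frobenius automorphism and of a graph automorphism (helper85)

`k` algebraically closed of characteristic `r`, `φ = phi chevE6 k r m`, `τ = conj t * gr`, `t ∈ TT`, `t² = 1`,
`χ_a(t) = ε ^ a₁`, `ε = ± 1`.

* `pfr_phi`, `pfr_tau` : `φ`, `τ` preserve the frame;
* `tau_xe`, `zz` : root elements, `zz s c = x_s(c) τ(x_s(c))`;
* `ng_word` : the elements `n_s(1)` as representatives.
-/

set_option autoImplicit false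
set_option linter.unusedSectionVars false

namespace Cfsg.Agent.H85.RGT.Six

open CoxeterSystem Cfsg Cfsg.Lie Cfsg.Lie.ChevalleyDatum
open Cfsg.Agent.ChevalleyStructure Cfsg.Agent.ChevalleyStructure.Elts Cfsg.Agent.ChevalleyStructure.CoxeterGeom
  Cfsg.Agent.ChevalleyStructure.NPerm Cfsg.Agent.ChevalleyStructure.NConj
open Cfsg.Agent.Tits.Roots Cfsg.Agent.Tits.Core Cfsg.Agent.Tits.RootComb Cfsg.Agent.Nodes.Reps Cfsg.Agent.Nodes.BNOf
  Cfsg.Agent.Nodes.RGDChev Cfsg.Agent.Nodes.Bruhat Cfsg.Agent.Nodes.NormalForm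
open Cfsg.Agent.KFacts.RgdField Cfsg.Agent.KFacts.RgdChevCoord Cfsg.Agent.CpAut.RgdUntw
open Cfsg.Agent.BpExc Cfsg.Agent.BpExc.TorCent Cfsg.Agent.BpExc.Tow Cfsg.Agent.BpExc.TowChev Cfsg.Agent.BpExc.Fr
  Cfsg.Agent.BpExc.FamField Cfsg.Agent.BpExc.FamUntw Cfsg.Agent.BpExc.FamInst Cfsg.Agent.BpExc.RowsUntw
open Cfsg.Agent.BpExc.FamTw.Gr (gr gr_xg xg coe_gr coe_xg gr_mul_fld)
open Cfsg.Agent.H522.FamTw.Frame (rho6 fr_six gr_sq6 permE)
open Cfsg.Agent.ChevalleyStructure.GraphSymm (symmE6)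
open Cfsg.Agent.H28.RG Cfsg.Agent.H441.RG

universe u

variable {k : Type u} [Field k]

/-- the Coxeter system -/
abbrev cs6 : CoxeterSystem CoxeterMatrix.E₆ CoxeterMatrix.E₆.Group := CoxeterMatrix.E₆.toCoxeterSystem

instance finW : Finite CoxeterMatrix.E₆.Group := finite_W e6T cs6

/-- root elements -/
noncomputable abbrev xe (s : ℕ) (c : k) : ↥(chevE6.group k) := xg e6T.inList s c

theorem xe_eq {s : ℕ} (hs : s < 72) (c : k) : xe s c = xc e6T (vc s) c :=
  Subtype.ext (coe_xc e6T (show s < chevE6.nroots from hs) c).symm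

theorem xe_add (s : ℕ) (a b : k) : xe s a * xe s b = xe s (a + b) := Subtype.ext (xG_add e6T.inList s a b)

theorem xe_zero (s : ℕ) : xe s (0 : k) = 1 := Subtype.ext (xG_zero e6T.inList s)

theorem xe_inv (s : ℕ) (a : k) : (xe s a)⁻¹ = xe s (-a) := Subtype.ext (xG_inv e6T.inList s a)

theorem xe_pow (s : ℕ) (a : k) (j : ℕ) : xe s a ^ j = xe s (j * a) := by
  induction j with
  | zero => rw [pow_zero, Nat.cast_zero, zero_mul, xe_zero]
  | succ j ih => rw [pow_succ, ih, xe_add]; congr 1; push_cast; ring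

theorem xe_eq_one {s : ℕ} (hs : s < 72) {a : k} : xe s a = 1 ↔ a = 0 := by
  rw [← xG_eq_one_iff e6T.inList (show s < chevE6.nroots from hs) a]
  exact ⟨fun h => congrArg Subtype.val h, fun h => Subtype.ext h⟩

theorem xe_inj {s : ℕ} (hs : s < 72) {a b : k} (h : xe s a = xe s b) : a = b :=
  xG_injective e6T.inList (show s < chevE6.nroots from hs) (congrArg Subtype.val h)

theorem mem_XX {s : ℕ} (hs : s < 72) {y : ↥(chevE6.group k)} : y ∈ XX chevE6 6 k (vc s) ↔ ∃ c, y = xe s c := by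
  rw [Subgroup.mem_subgroupOf, XV_vec e6T k (show s < chevE6.nroots from hs), mem_rootSubgroup_iff e6T.inList]
  exact ⟨fun ⟨c, hc⟩ => ⟨c, Subtype.ext hc⟩, fun ⟨c, hc⟩ => ⟨c, congrArg Subtype.val hc⟩⟩

theorem isRoot_vc {s : ℕ} (hs : s < 72) : IsRoot cs6 e6T.isCartan (vc s) := isRoot_vec e6T cs6 hs

theorem exists_vc {a : Fin 6 → ℤ} (ha : IsRoot cs6 e6T.isCartan a) : ∃ s : Fin 72, vc s.val = a := by
  obtain ⟨s, hs, e⟩ := (isRoot_iff e6T cs6 a).1 ha
  exact ⟨⟨s, hs⟩, e⟩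

theorem vc_inj {s s' : ℕ} (hs : s < 72) (hs' : s' < 72) (h : vc s = vc s') : s = s' := vec_inj e6T hs hs' h

theorem vc_negate {s : ℕ} (hs : s < 72) : vc (71 - s) = -vc s := by
  rw [← neg_idx ⟨s, hs⟩]
  exact vec_neg e6T hs

theorem nonneg_iff {s : ℕ} (hs : s < 72) : 0 ≤ vc s ↔ 36 ≤ s := by
  constructor
  · intro h
    by_contra hcon
    have h1 := vc_neg ⟨s, hs⟩ (not_le.1 hcon)
    have h2 : vc s = 0 := le_antisymm (fun i => h1 i) h
    exact (isRoot_vc hs).ne_zero h2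
  · intro h
    exact fun i => vc_pos ⟨s, hs⟩ h i

theorem nonpos_iff {s : ℕ} (hs : s < 72) : vc s ≤ 0 ↔ s < 36 := by
  constructor
  · intro h
    by_contra hcon
    have h1 := (nonneg_iff hs).2 (not_lt.1 hcon)
    exact (isRoot_vc hs).ne_zero (le_antisymm h h1)
  · intro h
    exact fun i => vc_neg ⟨s, hs⟩ h i

theorem rep_word (ω : List (Fin 6)) {s : ℕ} (hs : s < 72) :
    rep cs6 e6T.isCartan (cs6.wordProd ω) (vc s) = vc (rf ω s) := by
  induction ω with
  | nil => rw [wordProd_nil, map_one, Module.End.one_apply]; rfl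
  | cons i ω ih =>
    rw [wordProd_cons, rep_mul_apply, ih, rf_cons]
    exact rep_vec e6T cs6 i (show rf ω s < chevE6.nroots from rf_lt ω hs)

/-- different root elements -/
theorem eq_zero_of_eq {s s' : ℕ} (hs : s < 72) (hs' : s' < 72) (hne : s ≠ s') {a b : k} (h : xe s a = xe s' b) : a = 0 := by
  have h2 := congrArg (fun g : ↥(chevE6.group k) => ((g : GL chevE6.Idx k) : Matrix chevE6.Idx chevE6.Idx k)
    (Sum.inr ⟨s, hs⟩) (Sum.inr ⟨chevE6.neg s, neg_lt e6T.inList hs⟩)) h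
  simp only [coe_xg, coe_xG] at h2
  rw [x_entry_self e6T.inList hs, x_entry_ne e6T.inList hs hs' (fun h => hne h.symm)] at h2
  exact pow_eq_zero_iff (two_ne_zero) |>.1 (neg_eq_zero.1 h2)

/-- commuting root elements -/
theorem comm_xe {s s' : ℕ} (hs : s < 72) (hs' : s' < 72) (h1 : s' ≠ s) (h2 : s' ≠ chevE6.neg s)
    (h : chevE6.commTerms s s' = []) (a b : k) : xe s' b * xe s a = xe s a * xe s' b :=
  Subtype.ext (TwE6Basic.comm_of_commTerms hs hs' h1 h2 h a b)

/-- the commutator of `x₄₈` and `x₆₈` -/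
theorem comm_top_xe : ∃ η : k, (η = 1 ∨ η = -1) ∧ ∀ a b : k, xe 68 b * xe 48 a = xe 48 a * xe 68 b * xe 71 (η * (a * b)) := by
  obtain ⟨c, hc, hct⟩ := comm_48_68
  refine ⟨-(c : k), ?_, fun a b => ?_⟩
  · rcases hc with rfl | rfl
    · right; push_cast; rfl
    · left; push_cast; ring
  · apply Subtype.ext
    apply Units.ext
    show chevE6.x k 68 b * chevE6.x k 48 a = chevE6.x k 48 a * chevE6.x k 68 b * chevE6.x k 71 _
    rw [Cfsg.Agent.S1025.result chevE6 e6T.inList 48 68 (by decide) (by decide) (by decide) (by decide +kernel) a b]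
    congr 1
    show (chevE6.wordMat k ((chevE6.commTerms 48 68).map _)) = _
    rw [hct]
    show chevE6.x k 71 _ * 1 = _
    rw [mul_one]
    congr 1
    simp only [pow_one]
    ring

section closed

variable [IsAlgClosed k] (hk : LocFin k) (r : ℕ) [Fact r.Prime] [CharP k r]

include hk in
theorem tw6 : Tow cs6 e6T.isCartan r (Tj e6T (k := k)) (nc e6T k) (Xj e6T) := tow e6T cs6 hk r

include hk in
theorem GG_top6 : GG cs6 e6T.isCartan (TL (Tj e6T (k := k))) (XL (Xj e6T)) = ⊤ := GG_eq_top e6T cs6 hk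

include hk in
theorem TL6 : TL (Tj e6T (k := k)) = TT chevE6 k := TL_eq e6T hk

include hk in
theorem XL6 : XL (Xj e6T (k := k)) = XX chevE6 6 k := XL_eq e6T hk

include hk r in
theorem sep6 : ∀ a, IsRoot cs6 e6T.isCartan a → ∃ s ∈ TL (Tj e6T (k := k)), ∀ u ∈ XL (Xj e6T (k := k)) a,
    u * s = s * u → u = 1 := by
  rw [TL6 hk, XL6 hk]
  exact fun a ha => Cfsg.Agent.BpExc.NChev.sep e6T cs6 hk r ha

/-! ### the automorphisms -/

/-- `conj t * gr` -/
noncomputable def tau (t : ↥(chevE6.group k)) : MulAut ↥(chevE6.group k) :=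
  MulAut.conj t * gr (L := k) e6T.inList symmE6

theorem tau_apply (t y : ↥(chevE6.group k)) : tau t y = t * gr (L := k) e6T.inList symmE6 y * t⁻¹ := rfl

theorem gr_xe (s : Fin 72) (c : k) : gr (L := k) e6T.inList symmE6 (xe s.val c) = xe (rh s).val (((se s : ℤ) : k) * c) :=
  gr_xg e6T.inList symmE6 s c

theorem permE_nonneg {a : Fin 6 → ℤ} (h : 0 ≤ a) : 0 ≤ permE rho6 a := fun i => h (rho6.symm i)

theorem pfr_phi [PerfectRing k r] (m : ℕ) : PFr (tw6 hk r) (phi chevE6 k r m) := by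
  refine PFr.of_fr (tw6 hk r) (GG_top6 hk) (sep6 hk r) (θ := AddEquiv.refl _) ?_ fun a _ h => h
  rw [TL6 hk, XL6 hk]
  exact phi_fr e6T cs6 r hk m

theorem pfr_gr : PFr (tw6 hk r) (gr (L := k) e6T.inList symmE6) := by
  refine PFr.of_fr (tw6 hk r) (GG_top6 hk) (sep6 hk r) (θ := permE rho6) ?_ fun a _ h => permE_nonneg h
  rw [TL6 hk, XL6 hk]
  exact fr_six e6T cs6

theorem pfr_tau {t : ↥(chevE6.group k)} (ht : t ∈ TT chevE6 k) : PFr (tw6 hk r) (tau t) := by
  have hg := pfr_gr hk r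
  rw [← TL6 hk] at ht
  refine ⟨fun u hu => ?_, fun u hu => ?_, fun w g hw => ?_⟩
  · exact (Subgroup.mem_normalizer_iff.1 ((tw6 hk r).T_le_normalizer (S := RGD.Pos cs6 e6T.isCartan)
      (fun x hx => hx.1) ht) _).1 (hg.pos u hu)
  · exact (Subgroup.mem_normalizer_iff.1 ((tw6 hk r).T_le_normalizer (S := Cfsg.Agent.Nodes.OppDec.Neg cs6 e6T.isCartan)
      (fun x hx => hx.1) ht) _).1 (hg.neg u hu)
  · obtain ⟨w', hw'⟩ := hg.rp w g hw
    exact ⟨1 * w' * 1, ((rp_of_mem ht).mul hw').mul (rp_of_mem (inv_mem ht))⟩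

/-- the data of the torus element -/
structure TD (k : Type u) [Field k] (r m : ℕ) [Fact r.Prime] [CharP k r] [PerfectRing k r] (ε : kˣ)
    (t : ↥(chevE6.group k)) : Prop where
  eps : ε * ε = 1
  mem : t ∈ TT chevE6 k
  sq : t * t = 1
  phi : phi chevE6 k r m t = t
  gam : gr (L := k) e6T.inList symmE6 t = t
  ch : ∀ a, IsRoot cs6 e6T.isCartan a → ch e6T a t = ((ε ^ a 1 : kˣ) : k)

/-- the set of the two automorphisms -/
def SS (k : Type u) [Field k] (r m : ℕ) [Fact r.Prime] [CharP k r] [PerfectRing k r] (t : ↥(chevE6.group k)) :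
    Set (MulAut ↥(chevE6.group k)) := {phi chevE6 k r m, tau t}

variable [PerfectRing k r] {m : ℕ} {ε : kˣ} {t : ↥(chevE6.group k)}

theorem mem_L {y : ↥(chevE6.group k)} : y ∈ Fx (SS k r m t) ↔ phi chevE6 k r m y = y ∧ tau t y = y := by
  constructor
  · intro h
    exact ⟨h _ (Or.inl rfl), h _ (Or.inr rfl)⟩
  · rintro ⟨h1, h2⟩ α (rfl | rfl)
    · exact h1
    · exact h2

theorem pfr_all (ht : t ∈ TT chevE6 k) : ∀ α ∈ SS k r m t, PFr (tw6 hk r) α := by
  rintro α (rfl | rfl)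
  · exact pfr_phi hk r m
  · exact pfr_tau hk r ht

theorem phi_xe {s : ℕ} (hs : s < 72) (c : k) : phi chevE6 k r m (xe s c) = xe s (c ^ r ^ m) := by
  rw [xe_eq hs, xe_eq hs]
  show fld chevE6 (frb k r m) (xc e6T (vc s) c) = _
  rw [fld_xc e6T _ (show s < chevE6.nroots from hs), frb_apply]

/-- the scalar of `τ` -/
noncomputable def sc (ε : kˣ) (s : Fin 72) : k := ((ε ^ vc (rh s).val 1 : kˣ) : k) * ((se s : ℤ) : k)

theorem tau_xe (D : TD k r m ε t) (s : Fin 72) (c : k) : tau t (xe s.val c) = xe (rh s).val (sc ε s * c) := by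
  rw [tau_apply, gr_xe, xe_eq (rh s).2, (act e6T (show (rh s).val < chevE6.nroots from (rh s).2) D.mem).2,
    D.ch _ (isRoot_vc (rh s).2), ← xe_eq (rh s).2, sc, mul_assoc]

theorem sc_fix (D : TD k r m ε t) {s : Fin 72} (hs : rh s = s) (h : ε = 1 ∨ Even (vc s.val 1)) : sc ε s = 1 := by
  unfold sc
  rw [hs, se_fix s hs, Int.cast_one, mul_one]
  rcases h with rfl | h
  · rw [one_zpow, Units.val_one]
  · obtain ⟨j, hj⟩ := h
    rw [hj, zpow_add, ← mul_zpow, D.eps, one_zpow, Units.val_one]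

theorem sc_ne (s : Fin 72) : sc ε s ≠ 0 := by
  unfold sc
  refine mul_ne_zero (Units.ne_zero _) ?_
  rcases se_sq s with h | h <;> rw [h] <;> simp

include hk in
theorem xe_U {s : ℕ} (hs : s < 72) (h : 36 ≤ s) (c : k) : xe s c ∈ UU cs6 e6T.isCartan (Xj e6T (k := k)) := by
  have h1 : xe s c ∈ XL (Xj e6T (k := k)) (vc s) := by
    rw [XL6 hk]
    exact (mem_XX hs).2 ⟨c, rfl⟩
  exact RGD.le_Sup (S := RGD.Pos cs6 e6T.isCartan) ⟨isRoot_vc hs, (nonneg_iff hs).2 h⟩ h1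

include hk in
theorem xe_V {s : ℕ} (h : s < 36) (c : k) : xe s c ∈ VV cs6 e6T.isCartan (Xj e6T (k := k)) := by
  have hs : s < 72 := by omega
  have h1 : xe s c ∈ XL (Xj e6T (k := k)) (vc s) := by
    rw [XL6 hk]
    exact (mem_XX hs).2 ⟨c, rfl⟩
  exact RGD.le_Sup (S := Cfsg.Agent.Nodes.OppDec.Neg cs6 e6T.isCartan) ⟨isRoot_vc hs, (nonpos_iff hs).2 h⟩ h1

theorem tau_sq (D : TD k r m ε t) (y : ↥(chevE6.group k)) : tau t (tau t y) = y := by
  have h1 : gr (L := k) e6T.inList symmE6 (gr (L := k) e6T.inList symmE6 y) = y := by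
    have h2 := gr_sq6 (k := k) e6T.inList
    rw [pow_two] at h2
    exact congrArg (fun f : MulAut ↥(chevE6.group k) => f y) h2
  rw [tau_apply, tau_apply, map_mul, map_mul, map_inv, D.gam, h1]
  have e : t * (t * y * t⁻¹) * t⁻¹ = (t * t) * y * (t * t)⁻¹ := by group
  rw [e, D.sq]
  group

theorem phi_tau (D : TD k r m ε t) (y : ↥(chevE6.group k)) :
    phi chevE6 k r m (tau t y) = tau t (phi chevE6 k r m y) := by
  have h1 : gr (L := k) e6T.inList symmE6 (phi chevE6 k r m y) = phi chevE6 k r m (gr (L := k) e6T.inList symmE6 y) :=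
    congrArg (fun f : MulAut ↥(chevE6.group k) => f y) (gr_mul_fld e6T.inList symmE6 (frb k r m))
  rw [tau_apply, tau_apply, map_mul, map_mul, map_inv, D.phi, h1]

/-! ### the elements of `L` -/

/-- root elements fixed by `τ` -/
theorem xe_L (D : TD k r m ε t) {s : Fin 72} (hs : rh s = s) (h : ε = 1 ∨ Even (vc s.val 1)) {c : k}
    (hc : c ^ r ^ m = c) : xe s.val c ∈ Fx (SS k r m t) := by
  rw [mem_L]
  refine ⟨by rw [phi_xe r s.2, hc], ?_⟩
  rw [tau_xe r D, hs, sc_fix r D hs h, one_mul]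

/-- the elements `x_s(c) τ(x_s(c))` -/
noncomputable def zz (t : ↥(chevE6.group k)) (s : ℕ) (c : k) : ↥(chevE6.group k) := xe s c * tau t (xe s c)

theorem comm_tau (D : TD k r m ε t) {s : Fin 72} (hs : rh s ≠ s) (a b : k) :
    tau t (xe s.val b) * xe s.val a = xe s.val a * tau t (xe s.val b) := by
  rw [tau_xe r D]
  obtain ⟨h1, h2⟩ := comm_rh s hs
  exact comm_xe s.2 (rh s).2 (fun e => hs (Fin.ext e)) h2 h1 _ _

theorem zz_L (D : TD k r m ε t) {s : Fin 72} (hs : rh s ≠ s) {c : k} (hc : c ^ r ^ m = c) :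
    zz t s.val c ∈ Fx (SS k r m t) := by
  rw [mem_L]
  unfold zz
  refine ⟨?_, ?_⟩
  · rw [map_mul, phi_tau r D, phi_xe r s.2, hc]
  · rw [map_mul, tau_sq r D, comm_tau r D hs]

include hk in
theorem zz_U (D : TD k r m ε t) {s : Fin 72} (h : 36 ≤ s.val) (c : k) :
    zz t s.val c ∈ UU cs6 e6T.isCartan (Xj e6T (k := k)) := by
  unfold zz
  rw [tau_xe r D]
  exact mul_mem (xe_U hk s.2 h c) (xe_U hk (rh s).2 (rh_pos s h) _)

theorem zz_ne (D : TD k r m ε t) {s : Fin 72} (hs : rh s ≠ s) {c : k} (hc : c ≠ 0) : zz t s.val c ≠ 1 := by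
  intro h
  unfold zz at h
  rw [tau_xe r D] at h
  have h1 : xe s.val c = xe (rh s).val (-(sc ε s * c)) := by
    rw [← xe_inv]
    exact eq_inv_of_mul_eq_one_left h
  exact hc (eq_zero_of_eq s.2 (rh s).2 (fun e => hs (Fin.ext e).symm) h1)

/-! ### representatives -/

/-- the elements `n_s(c)` -/
noncomputable def ng (s : ℕ) (c : k) : ↥(chevE6.group k) := ⟨nG e6T.inList s c, nG_mem_group e6T.inList s c⟩

theorem ng_eq {s : ℕ} (hs : s < 72) (c : k) : ng s c = xe s c * (xe (71 - s) (-c⁻¹) * xe s c) := by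
  rw [← neg_idx ⟨s, hs⟩]
  exact Subtype.ext (nG_def e6T.inList s c)

theorem simple_lt6 (i : Fin 6) : chevE6.simple i < 72 :=
  Cfsg.Agent.ChevalleyStructure.NPerm.simple_lt e6T.inList (lt_rank e6T i)

theorem ng_neg_one (s : ℕ) : ng s (-1 : k) = (ng s 1)⁻¹ := Subtype.ext (nG_inv e6T.inList s 1).symm

theorem ng_simple (i : Fin 6) {c : k} (hc : c = 1 ∨ c = -1) : Rp cs6 (tw6 hk r).nsys (cs6.simple i) (ng (chevE6.simple i) c) := by
  have h1 : Rp cs6 (tw6 hk r).nsys (cs6.simple i) (ng (k := k) (chevE6.simple i) 1) := rp_simple cs6 _ i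
  rcases hc with rfl | rfl
  · exact h1
  · have h2 := h1.inv
    rwa [ng_neg_one, inv_simple] at *

theorem ng_word (ω : List (Fin 6)) (i : Fin 6) : ∃ g, Rp cs6 (tw6 hk r).nsys (cs6.wordProd ω) g ∧
    ∀ c : k, (c = 1 ∨ c = -1) → ∃ c' : k, (c' = 1 ∨ c' = -1) ∧
      ng (rf ω (chevE6.simple i)) c = g * ng (chevE6.simple i) c' * g⁻¹ := by
  induction ω with
  | nil =>
    refine ⟨1, by rw [wordProd_nil]; exact rp_one, fun c hc => ⟨c, hc, ?_⟩⟩
    rw [one_mul, inv_one, mul_one]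
    rfl
  | cons j ω ih =>
    obtain ⟨g, hg, h⟩ := ih
    obtain ⟨η, hη, -, -, h3⟩ := conj_n (F := k) e6T.inList (lt_rank e6T j) (show rf ω (chevE6.simple i) < chevE6.nroots from
      rf_lt ω (simple_lt6 i))
    refine ⟨nc e6T k j * g, ?_, fun c hc => ?_⟩
    · rw [wordProd_cons]
      exact (rp_simple cs6 _ j).mul hg
    · have hηη : η * η = 1 := sign_mul_self hη
      obtain ⟨c', hc', e⟩ := h (η * c) (by
        rcases hη with rfl | rfl <;> rcases hc with rfl | rfl <;> simp)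
      refine ⟨c', hc', ?_⟩
      have e1 : ng (rf (j :: ω) (chevE6.simple i)) c = nc e6T k j * ng (rf ω (chevE6.simple i)) (η * c) * (nc e6T k j)⁻¹ := by
        apply Subtype.ext
        have h4 := h3 (η * c)
        rw [← mul_assoc, hηη, one_mul] at h4
        exact h4.symm
      rw [e1, e]
      group

/-- the elements `n_s(1)` as representatives of reflections -/
theorem rp_ng (ω : List (Fin 6)) (i : Fin 6) :
    Rp cs6 (tw6 hk r).nsys (cs6.wordProd (ω ++ [i] ++ ω.reverse)) (ng (k := k) (rf ω (chevE6.simple i)) 1) := by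
  obtain ⟨g, hg, h⟩ := ng_word hk r ω i
  obtain ⟨c', hc', e⟩ := h 1 (Or.inl rfl)
  rw [e, wordProd_append, wordProd_append, wordProd_reverse, wordProd_singleton]
  exact (hg.mul (ng_simple hk r i hc')).mul hg.inv

include hk r in
/-- the square of `n_s(1)` -/
theorem ng_sq_act (ω : List (Fin 6)) (i : Fin 6) {b : ℕ} (hb : b < 72)
    (hpar : ¬ Even (chevE6.cartan i (rf ω.reverse b))) (c : k) :
    (ng (rf ω (chevE6.simple i)) 1 * ng (rf ω (chevE6.simple i)) 1) * xe b c *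
      (ng (rf ω (chevE6.simple i)) 1 * ng (rf ω (chevE6.simple i)) 1)⁻¹ = xe b (-c) := by
  obtain ⟨g, hg, h⟩ := ng_word hk r ω i
  obtain ⟨c', hc', e⟩ := h 1 (Or.inl rfl)
  have C := coordsL (k := k) e6T cs6 hk r
  set u : ↥(chevE6.group k) := ng (chevE6.simple i) c' * ng (chevE6.simple i) c' with hu
  have hn1 : (-1 : k) ≠ 0 := neg_ne_zero.2 one_ne_zero
  -- the torus element
  have hsq : ng (chevE6.simple i) (1 : k) * ng (chevE6.simple i) 1 = (hc e6T i (-1 : k))⁻¹ :=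
    Subtype.ext (nG_one_mul_self e6T.inList (chevE6.simple i))
  have huc : u = (hc e6T i (-1 : k))⁻¹ ∨ u = hc e6T i (-1 : k) := by
    rcases hc' with rfl | rfl
    · left; exact hsq
    · right
      rw [hu, ng_neg_one, ← mul_inv_rev, hsq, inv_inv]
  have huT : u ∈ TT chevE6 k := by
    rcases huc with h1 | h1 <;> rw [h1]
    · exact inv_mem (hc_mem e6T i hn1)
    · exact hc_mem e6T i hn1
  set b' := rf ω.reverse b with hb'
  have hb'lt : b' < 72 := rf_lt _ hb
  have hch : ch e6T (vc b') u = -1 := by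
    have h1 : ch e6T (vc b') (hc e6T i (-1 : k)) = -1 := by
      rw [ch_hc e6T i hn1 (show b' < chevE6.nroots from hb'lt)]
      exact Odd.neg_one_zpow (Int.not_even_iff_odd.1 hpar)
    rcases huc with h2 | h2
    · rw [h2]
      apply ch_eq e6T (show b' < chevE6.nroots from hb'lt) (inv_mem (hc_mem e6T i hn1))
      have h3 := (act e6T (show b' < chevE6.nroots from hb'lt) (hc_mem e6T i hn1)).2 (-1 : k)
      rw [h1, neg_mul_neg, one_mul] at h3
      rw [← h3]
      group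
    · rw [h2, h1]
  have hrep : rep cs6 e6T.isCartan (cs6.wordProd ω) (vc b') = vc b := by
    have h1 := rep_word ω.reverse hb
    rw [wordProd_reverse] at h1
    rw [← hb'] at h1
    rw [← h1, ← rep_mul_apply, mul_inv_cancel, map_one, Module.End.one_apply]
  have hn2 : ng (rf ω (chevE6.simple i)) (1 : k) * ng (rf ω (chevE6.simple i)) 1 = g * u * g⁻¹ := by
    rw [e, hu]; group
  have hC : Coords cs6 e6T.isCartan (TL (Tj e6T (k := k))) (nc e6T k) (XX chevE6 6 k) (xc e6T) (ch e6T) := by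
    rw [TL6 hk]; exact C
  have hgT : g * u * g⁻¹ ∈ TT chevE6 k := by
    rw [← TL6 hk] at huT ⊢
    exact (Subgroup.mem_normalizer_iff.1 hg.mem_normalizer u).1 huT
  have h2 : ch e6T (vc b) (g * u * g⁻¹) = -1 := by
    rw [← hrep, hC.chi_rp (tw6 hk r).nsys hg (isRoot_vc hb'lt) (by rw [TL6 hk]; exact huT), hch]
  rw [hn2, xe_eq hb, (act e6T (show b < chevE6.nroots from hb) hgT).2, h2, xe_eq hb, neg_one_mul]

end closed

end Cfsg.Agent.H85.RGT.Six
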