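import Cfsg.Agent.H85.RGT.SixD
import Cfsg.Agent.H692.RG.Cls

/-!
# S3509, `E₆`, `q` odd: the torus elements of the normal forms (helper85)
-/

set_option autoImplicit false
set_option linter.unusedSectionVars false

namespace Cfsg.Agent.H85.RGT.Six

open CoxeterSystem Cfsg Cfsg.Lie Cfsg.Lie.ChevalleyDatum
open Cfsg.Agent.ChevalleyStructure Cfsg.Agent.BpExc.RowsUntw Cfsg.Agent.BpExc.TowChev
open Cfsg.Agent.H469.Exc (KK)
open Cfsg.Agent.H296.ESixGF (hp6)

variable {r : ℕ} [Fact r.Prime]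

/-- the torus elements of helper692 -/
theorem td_of_te {ε : (KK r)ˣ} {t : ↥(chevE6.group (KK r))} (h : Cfsg.Agent.H692.RG.TE ε t) (m : ℕ) :
    TD (KK r) r m ε t where
  eps := h.eps
  mem := h.mem
  sq := h.sq
  phi := h.phi m
  gam := h.gam
  ch := fun _ ha => h.ch ha

end Cfsg.Agent.H85.RGT.Six
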